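import Mathlib
import Cfsg.Agent.Coprime.Hall

/-!
# Groups whose maximal subgroups have no prime power index
-/

set_option autoImplicit false

namespace Cfsg.Lib.SuzMax

open Subgroup
open scoped commutatorElement

universe u

variable {G : Type u} [Group G] [Finite G]

/-- A solvable normal subgroup lies in every maximal subgroup of non-prime-power index. -/
theorem solvable_normal_le {R M : Subgroup G} [R.Normal] [Group.IsSolvable R] (hM : IsCoatom M)
    (hpp : ¬ IsPrimePow M.index) : R ≤ M := by
  by_contra hno
  obtain ⟨N, ⟨hNn, hNR, hNM⟩, hmin⟩ := (Set.toFinite {N : Subgroup G | N.Normal ∧ N ≤ R ∧ ¬ N ≤ M}).exists_minimal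
    ⟨R, inferInstance, le_rfl, hno⟩
  haveI := hNn
  haveI hNsol : Group.IsSolvable N := Group.isSolvable_of_isSolvable_injective (inclusion_injective hNR)
  have hsub : ∀ L : Subgroup G, L.Normal → L ≤ N → ¬ L ≤ M → L = N := fun L hL hLN hLM =>
    le_antisymm hLN (hmin ⟨hL, hLN.trans hNR, hLM⟩ hLN)
  haveI : Nontrivial N := (nontrivial_iff_ne_bot N).2 fun e => hNM (e ▸ bot_le)
  have hcomm : ⁅N, N⁆ ≤ M := by
    by_contra h
    have e := hsub _ (commutator_normal N N) (commutator_le_left N N) h
    have h1 : ⁅(⊤ : Subgroup N), (⊤ : Subgroup N)⁆ = ⊤ := by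
      apply map_injective (N.subtype_injective)
      rw [map_commutator, ← MonoidHom.range_eq_map, range_subtype, e]
    exact (Group.IsSolvable.commutator_lt_top_of_nontrivial N).ne (by rw [commutator_def]; exact h1)
  have hsup : N ⊔ M = ⊤ := hM.2 _ (lt_of_le_of_ne le_sup_right fun h => hNM (h ▸ le_sup_left))
  haveI hIn : (N ⊓ M).Normal := by
    refine normalizer_eq_top_iff.mp (eq_top_iff.mpr (hsup.ge.trans (sup_le ?_ ?_)))
    · intro n hn
      have key : ∀ n ∈ N, ∀ y ∈ N ⊓ M, n * y * n⁻¹ ∈ N ⊓ M := fun n hn y hy => by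
        refine ⟨N.mul_mem (N.mul_mem hn hy.1) (N.inv_mem hn), ?_⟩
        rw [show n * y * n⁻¹ = (n * y * n⁻¹ * y⁻¹) * y by group]
        exact M.mul_mem (hcomm (by rw [← commutatorElement_def]; exact commutator_mem_commutator hn hy.1)) hy.2
      rw [mem_normalizer_iff]
      refine fun y => ⟨key n hn y, fun hy => ?_⟩
      have := key n⁻¹ (N.inv_mem hn) _ hy
      simpa [mul_assoc] using this
    · exact Cfsg.Lib.Coprime.le_normalizer_inf le_normalizer_of_normal le_normalizer
  set I := N ⊓ M
  set f := QuotientGroup.mk' I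
  have hs : Function.Surjective f := QuotientGroup.mk'_surjective I
  have hker : f.ker = I := QuotientGroup.ker_mk' I
  set Nb := N.map f
  haveI hNb : Nb.Normal := hNn.map _ hs
  haveI : Group.IsSolvable Nb := Group.isSolvable_of_surjective (f.subgroupMap_surjective N)
  have hback : Nb.comap f = N := comap_map_eq_self (by rw [hker]; exact inf_le_left)
  have hne : Nb ≠ ⊥ := fun h => hNM (by
    have := hback
    rw [h, MonoidHom.comap_bot, hker] at this
    exact this ▸ inf_le_right)
  have hminb : ∀ X : Subgroup (G ⧸ I), X.Normal → X ≤ Nb → X = ⊥ ∨ X = Nb := by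
    intro X hX hXN
    by_cases hle : X.comap f ≤ M
    · left
      rw [eq_bot_iff]
      intro z hz
      obtain ⟨w, rfl⟩ := hs z
      have hw : w ∈ I := ⟨hback ▸ comap_mono hXN hz, hle hz⟩
      rw [← hker] at hw
      exact MonoidHom.mem_ker.1 hw
    · right
      have h1 := hsub _ (hX.comap f) (hback ▸ comap_mono hXN) hle
      rw [← map_comap_eq_self_of_surjective hs X, h1]
  obtain ⟨-, p, hp, hNp, -⟩ := Cfsg.Lib.Coprime.minimal_normal_solvable (N := Nb) inferInstance hne hminb
  obtain ⟨j, hj⟩ := @IsPGroup.exists_card_eq p Nb _ ⟨hp⟩ _ hNp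
  -- the index is the order of the chief factor
  have h1 : Nat.card N = Nat.card I * Nat.card Nb := by
    have h := card_eq_card_quotient_mul_card_subgroup (I.subgroupOf N)
    rw [Nat.card_congr (subgroupOfEquivOfLe (inf_le_left : I ≤ N)).toEquiv] at h
    have e : Nat.card (N ⧸ I.subgroupOf N) = Nat.card Nb := by
      have hk : (f.subgroupMap N).ker = I.subgroupOf N := by
        ext z
        rw [MonoidHom.mem_ker, mem_subgroupOf, Subtype.ext_iff]
        exact QuotientGroup.eq_one_iff _
      rw [← hk]
      exact Nat.card_congr (QuotientGroup.quotientKerEquivOfSurjective _ (f.subgroupMap_surjective N)).toEquiv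
    rw [h, e, mul_comm]
  have h2 : Nat.card G * Nat.card I = Nat.card N * Nat.card M := by
    have hprod := relIndex_sup_left (K := N) (H := M)
    rw [hsup] at hprod
    have hN := N.card_mul_index
    have hI := card_mul_index ((N ⊓ M).subgroupOf M)
    rw [Nat.card_congr (subgroupOfEquivOfLe (inf_le_right : I ≤ M)).toEquiv] at hI
    have e : ((N ⊓ M).subgroupOf M).index = N.index := by
      show (N ⊓ M).relIndex M = _
      rw [inf_relIndex_right, ← hprod, relIndex_top_right]
    rw [e] at hI
    rw [← hN, ← hI]; ring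
  have h3 : M.index = Nat.card Nb := by
    have hM' := M.card_mul_index
    apply Nat.eq_of_mul_eq_mul_left (Nat.card_pos (α := M))
    apply Nat.eq_of_mul_eq_mul_right (Nat.card_pos (α := I))
    rw [hM', h2, h1]; ring
  refine hpp ?_
  rw [h3, hj, isPrimePow_nat_iff]
  refine ⟨p, j, hp, Nat.pos_of_ne_zero fun e => hne ?_, rfl⟩
  exact card_eq_one.1 (by rw [hj, e, pow_zero])

/-- The order divides every common multiple of the orders of the maximal subgroups. -/
theorem card_dvd_of_coatoms {L : ℕ} (h : ∀ M : Subgroup G, IsCoatom M → Nat.card M ∣ L)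
    (hnp : ∀ p n : ℕ, p.Prime → Nat.card G ≠ p ^ n) (hL : L ≠ 0) : Nat.card G ∣ L := by
  rw [← Nat.factorization_le_iff_dvd Nat.card_pos.ne' hL]
  intro p
  by_cases hp : p.Prime
  swap
  · simp [Nat.factorization_eq_zero_of_not_prime _ hp]
  haveI := Fact.mk hp
  let P : Sylow p G := default
  have hP := P.card_eq_multiplicity
  have hne : (P : Subgroup G) ≠ ⊤ := fun e => hnp p ((Nat.card G).factorization p) hp (by
    rw [← hP]; exact ((congrArg (fun K : Subgroup G => Nat.card K) e).trans card_top).symm)
  obtain ⟨M, hM, hle⟩ := (eq_top_or_exists_le_coatom (P : Subgroup G)).resolve_left hne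
  exact (hp.pow_dvd_iff_le_factorization hL).1 (hP ▸ (card_dvd_of_le hle).trans (h M hM))

/-- A minimal normal subgroup that is not solvable maps onto a nonabelian simple group, and its order
divides a power of the order of that group. -/
theorem exists_simple_image {K : Subgroup G} [K.Normal] (hns : ¬ Group.IsSolvable K)
    (hmin : ∀ X : Subgroup G, X.Normal → X ≤ K → X = ⊥ ∨ X = K) :
    ∃ N : Subgroup K, ∃ _ : N.Normal, IsSimpleGroup (K ⧸ N) ∧ (∃ a b : K ⧸ N, a * b ≠ b * a) ∧
      ∃ c : ℕ, Nat.card K ∣ Nat.card (K ⧸ N) ^ c := by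
  have hKne : K ≠ ⊥ := fun e => hns (by subst e; infer_instance)
  haveI : Nontrivial K := (nontrivial_iff_ne_bot K).2 hKne
  obtain ⟨N, ⟨hNn, hNne⟩, hmax⟩ := (Set.toFinite {N : Subgroup K | N.Normal ∧ N ≠ ⊤}).exists_maximal
    ⟨⊥, normal_bot, bot_ne_top⟩
  haveI := hNn
  haveI : Nontrivial (K ⧸ N) := QuotientGroup.nontrivial_iff.2 hNne
  have hsimple : IsSimpleGroup (K ⧸ N) := ⟨fun X hX => by
    have hle : N ≤ X.comap (QuotientGroup.mk' N) := fun z hz => by
      rw [mem_comap, QuotientGroup.mk'_apply, (QuotientGroup.eq_one_iff z).2 hz]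
      exact X.one_mem
    by_cases ht : X.comap (QuotientGroup.mk' N) = ⊤
    · right
      rw [← map_comap_eq_self_of_surjective (QuotientGroup.mk'_surjective N) X, ht,
        map_top_of_surjective _ (QuotientGroup.mk'_surjective N)]
    · left
      have h1 := le_antisymm (hmax ⟨hX.comap _, ht⟩ hle) hle
      rw [← map_comap_eq_self_of_surjective (QuotientGroup.mk'_surjective N) X, h1,
        QuotientGroup.map_mk'_self]⟩
  refine ⟨N, hNn, hsimple, ?_, ?_⟩
  · by_contra hc
    push Not at hc
    have hle : ⁅(⊤ : Subgroup K), (⊤ : Subgroup K)⁆ ≤ N := by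
      rw [commutator_le]
      intro a _ b _
      have e : QuotientGroup.mk' N ⁅a, b⁆ = 1 := by
        rw [map_commutatorElement, commutatorElement_eq_one_iff_mul_comm]
        exact hc _ _
      exact (QuotientGroup.eq_one_iff _).1 e
    rcases hmin ⁅K, K⁆ (commutator_normal K K) (commutator_le_left K K) with h | h
    · exact hns (Group.isSolvable_of_comm fun a b => Subtype.ext (by
        have := commutator_mem_commutator a.2 b.2
        rw [h, mem_bot, commutatorElement_eq_one_iff_mul_comm] at this
        exact this))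
    · refine hNne (eq_top_iff.2 (le_trans (le_of_eq ?_) hle))
      apply map_injective K.subtype_injective
      rw [map_commutator, ← MonoidHom.range_eq_map, range_subtype, h]
  · haveI := Fintype.ofFinite G
    refine ⟨Fintype.card G, ?_⟩
    let φ : K →* (G → K ⧸ N) :=
      { toFun := fun k g => QuotientGroup.mk' N ⟨g * k * g⁻¹, (inferInstance : K.Normal).conj_mem _ k.2 g⟩
        map_one' := funext fun g => by
          simp only [Pi.one_apply, OneMemClass.coe_one, mul_one, mul_inv_cancel]
          exact map_one _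
        map_mul' := fun a b => funext fun g => by
          rw [Pi.mul_apply, ← map_mul]
          exact congrArg _ (Subtype.ext (by simp [mul_assoc])) }
    have hinj : Function.Injective φ := by
      rw [← MonoidHom.ker_eq_bot_iff]
      set X := φ.ker.map K.subtype with hX
      have hXn : X.Normal := ⟨by
        rintro _ ⟨k, hk, rfl⟩ g
        refine ⟨⟨g * k * g⁻¹, (inferInstance : K.Normal).conj_mem _ k.2 g⟩, funext fun h => ?_, rfl⟩
        have := congrFun (MonoidHom.mem_ker.1 hk) (h * g)
        simp only [Pi.one_apply] at this ⊢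
        rw [← this]
        exact congrArg _ (Subtype.ext (by simp [mul_assoc]))⟩
      rcases hmin X hXn (map_subtype_le _) with h | h
      · exact (map_eq_bot_iff_of_injective _ K.subtype_injective).1 h
      · exfalso
        refine hNne (eq_top_iff.2 fun k _ => ?_)
        have hk : (k : G) ∈ X := h.symm ▸ k.2
        obtain ⟨k', hk', e⟩ := hk
        obtain rfl : k' = k := Subtype.ext e
        have := congrFun (MonoidHom.mem_ker.1 hk') 1
        refine (QuotientGroup.eq_one_iff k').1 (Eq.trans ?_ this)
        exact congrArg (QuotientGroup.mk' N) (Subtype.ext (by simp))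
    have h := card_dvd_of_injective φ hinj
    rwa [Nat.card_fun, Nat.card_eq_fintype_card (α := G)] at h

end Cfsg.Lib.SuzMax
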