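import Mathlib

/-!
# Arithmetic of the orders of the Suzuki groups
-/

set_option autoImplicit false

namespace Cfsg.Lib.SuzMax

/-- The order of the Suzuki group over `2 ^ e` elements. -/
def ord (e : ℕ) : ℕ := (2 ^ e) ^ 2 * ((2 ^ e) ^ 2 + 1) * (2 ^ e - 1)

theorem ord_pos {e : ℕ} (he : 1 ≤ e) : 0 < ord e := by
  have : 2 ≤ 2 ^ e := (Nat.le_self_pow (by omega) 2)
  have h : 0 < 2 ^ e - 1 := by omega
  unfold ord; positivity

theorem not_isPrimePow_of_coprime {n a b : ℕ} (ha : a ∣ n) (hb : b ∣ n) (hab : a.Coprime b) (ha1 : 1 < a)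
    (hb1 : 1 < b) : ¬ IsPrimePow n := by
  intro h
  obtain ⟨p, k, hp, -, rfl⟩ := (isPrimePow_nat_iff n).1 h
  obtain ⟨i, -, rfl⟩ := (Nat.dvd_prime_pow hp).1 ha
  obtain ⟨j, -, rfl⟩ := (Nat.dvd_prime_pow hp).1 hb
  have hi : i ≠ 0 := fun e => by rw [e] at ha1; simp at ha1
  have hj : j ≠ 0 := fun e => by rw [e] at hb1; simp at hb1
  exact hp.one_lt.ne' (Nat.Coprime.eq_one_of_dvd
    ((Nat.coprime_pow_left_iff (Nat.pos_of_ne_zero hi) _ _).1 hab) (dvd_pow_self p hj))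

theorem dvd_sub_one_gcd {r a b : ℕ} (ha : r ∣ 2 ^ a - 1) (hb : r ∣ 2 ^ b - 1) : r ∣ 2 ^ Nat.gcd a b - 1 := by
  rw [← Nat.pow_sub_one_gcd_pow_sub_one]
  exact Nat.dvd_gcd ha hb

/-- A prime divisor of `x ^ p - 1` that does not divide `x - 1`. -/
theorem exists_new_prime {x p : ℕ} (hp : p.Prime) (hodd : Odd p) (hx : 2 ≤ x) :
    ∃ r : ℕ, r.Prime ∧ r ∣ x ^ p - 1 ∧ ¬ r ∣ x - 1 := by
  set Q := ∑ i ∈ Finset.range p, x ^ i with hQ
  have hgeom : ((x : ℤ) - 1) * (Q : ℤ) = (x : ℤ) ^ p - 1 := by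
    rw [hQ]; push_cast
    exact mul_geom_sum (x : ℤ) p
  have hxp : x ^ p - 1 = (x - 1) * Q := by
    have h1 : 1 ≤ x ^ p := Nat.one_le_pow _ _ (by omega)
    apply Nat.cast_injective (R := ℤ)
    push_cast [Nat.cast_sub h1, Nat.cast_sub (by omega : 1 ≤ x)]
    exact hgeom.symm
  have hQp : p < Q := by
    rw [hQ]
    calc p = ∑ _i ∈ Finset.range p, 1 := by simp
      _ < _ := Finset.sum_lt_sum (fun i _ => Nat.one_le_pow _ _ (by omega))
          ⟨1, Finset.mem_range.2 hp.one_lt, by rw [pow_one]; omega⟩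
  by_contra hno
  push Not at hno
  have key : ∀ r : ℕ, r.Prime → r ∣ Q → r = p ∧ (r : ℤ) ∣ (x : ℤ) - 1 := by
    intro r hr hrQ
    have h1 := hno r hr (hxp ▸ hrQ.mul_left _)
    have h1' : (r : ℤ) ∣ (x : ℤ) - 1 := by
      obtain ⟨w, hw⟩ := h1
      refine ⟨w, ?_⟩
      have : x = r * w + 1 := by omega
      rw [this]; push_cast; ring
    have hsum : (r : ℤ) ∣ (Q : ℤ) - p := by
      have : (Q : ℤ) - p = ∑ i ∈ Finset.range p, ((x : ℤ) ^ i - 1) := by
        rw [hQ]; push_cast; simp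
      rw [this]
      exact Finset.dvd_sum fun i _ => h1'.trans (sub_one_dvd_pow_sub_one (x : ℤ) i)
    have hrp : r ∣ p := by
      have := dvd_sub (Int.natCast_dvd_natCast.2 hrQ) hsum
      simp only [sub_sub_cancel] at this
      exact Int.natCast_dvd_natCast.1 this
    exact ⟨(Nat.prime_dvd_prime_iff_eq hr hp).1 hrp, h1'⟩
  -- `Q` is a power of `p`
  obtain ⟨r, hr, hrQ⟩ := Nat.exists_prime_and_dvd (show Q ≠ 1 by have := hp.two_le; omega)
  obtain ⟨rfl, hx1⟩ := key r hr hrQ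
  have hpow : Q = r ^ Q.primeFactorsList.length :=
    Nat.eq_prime_pow_of_unique_prime_dvd (by omega) fun {d} hd hdQ => (key d hd hdQ).1
  have hsq : r ^ 2 ∣ Q := by
    rw [hpow]
    refine pow_dvd_pow r ?_
    by_contra hlt
    have : r ^ Q.primeFactorsList.length ≤ r ^ 1 := Nat.pow_le_pow_right hr.pos (by omega)
    rw [← hpow, pow_one] at this
    omega
  obtain ⟨t, ht⟩ := hx1
  have hx' : (x : ℤ) = r * t + 1 := by linarith
  have hterm : ∀ i : ℕ, ((r : ℤ) ^ 2) ∣ (x : ℤ) ^ i - (1 + i * (r * t)) := by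
    intro i
    induction i with
    | zero => simp
    | succ i ih =>
      obtain ⟨w, hw⟩ := ih
      refine ⟨w * (r * t + 1) + i * t ^ 2, ?_⟩
      rw [pow_succ, hx']
      rw [hx'] at hw
      push_cast
      linear_combination ((r : ℤ) * t + 1) * hw
  have hsum : ((r : ℤ) ^ 2) ∣ (Q : ℤ) - (r + (∑ i ∈ Finset.range r, (i : ℤ)) * (r * t)) := by
    have : (Q : ℤ) - (r + (∑ i ∈ Finset.range r, (i : ℤ)) * (r * t)) =
        ∑ i ∈ Finset.range r, ((x : ℤ) ^ i - (1 + i * (r * t))) := by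
      rw [hQ, Finset.sum_sub_distrib, Finset.sum_add_distrib, Finset.sum_mul]; push_cast; simp
    rw [this]
    exact Finset.dvd_sum fun i _ => hterm i
  obtain ⟨j, hj⟩ := hodd
  have hgauss : (∑ i ∈ Finset.range r, (i : ℤ)) = r * j := by
    have h := Finset.sum_range_id_mul_two r
    rw [show r - 1 = 2 * j by omega] at h
    have : ∑ i ∈ Finset.range r, i = r * j := by nlinarith
    have hcast := congrArg (Nat.cast : ℕ → ℤ) this
    push_cast at hcast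
    exact hcast
  rw [hgauss] at hsum
  have hsq' : ((r : ℤ) ^ 2) ∣ (Q : ℤ) := by exact_mod_cast hsq
  have h3 : ((r : ℤ) ^ 2) ∣ (r : ℤ) := by
    have := (dvd_sub hsq' hsum).sub (dvd_mul_right ((r : ℤ) ^ 2) (j * t))
    rw [show (Q : ℤ) - ((Q : ℤ) - (r + r * j * (r * t))) - (r : ℤ) ^ 2 * (j * t) = r by ring] at this
    exact this
  have h4 : r ^ 2 ≤ r := Nat.le_of_dvd hr.pos (by exact_mod_cast h3)
  nlinarith [hr.two_le]

/-- A prime separating two Suzuki orders. -/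
theorem prime_sep {e e' : ℕ} (he : Odd e) (h : ¬ e ∣ e') :
    ∃ r : ℕ, r.Prime ∧ r ≠ 2 ∧ r ∣ 2 ^ e - 1 ∧ ¬ r ∣ ord e' := by
  have he0 : 0 < e := he.pos
  set d := Nat.gcd e e' with hd
  have hde : d ∣ e := Nat.gcd_dvd_left _ _
  have hdne : d ≠ e := fun eq => h (eq ▸ Nat.gcd_dvd_right e e')
  obtain ⟨j, hj⟩ := hde
  have hd0 : 0 < d := Nat.gcd_pos_of_pos_left _ he0
  obtain ⟨p, hp, hpj⟩ := Nat.exists_prime_and_dvd (show j ≠ 1 from fun e1 => hdne (by rw [hj, e1, mul_one]))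
  have hpodd : Odd p := Odd.of_dvd_nat he (hpj.trans (Dvd.intro_left d hj.symm))
  obtain ⟨r, hr, hr1, hr2⟩ := exists_new_prime hp hpodd
    (show 2 ≤ 2 ^ d from Nat.le_self_pow (by omega) 2)
  have hrq : r ∣ 2 ^ e - 1 := by
    refine hr1.trans ?_
    rw [← pow_mul]
    exact Nat.pow_sub_one_dvd_pow_sub_one 2 (hj ▸ Nat.mul_dvd_mul_left d hpj)
  have hr_two : r ≠ 2 := fun e2 => by
    have h2 : 2 ∣ 2 ^ e := dvd_pow_self 2 he0.ne'
    have h1 : 1 ≤ 2 ^ e := Nat.one_le_two_pow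
    rw [e2] at hrq
    omega
  refine ⟨r, hr, hr_two, hrq, fun hd' => ?_⟩
  rcases hr.dvd_mul.1 hd' with h' | h'
  · rcases hr.dvd_mul.1 h' with h' | h'
    · exact hr_two ((Nat.prime_dvd_prime_iff_eq hr Nat.prime_two).1 (hr.dvd_of_dvd_pow (hr.dvd_of_dvd_pow h')))
    · refine hr2 ?_
      have h4 : r ∣ 2 ^ (4 * e') - 1 := by
        refine h'.trans ⟨(2 ^ e') ^ 2 - 1, ?_⟩
        rw [show 4 * e' = e' * 2 * 2 by ring, pow_mul, pow_mul, ← Nat.sq_sub_sq, one_pow]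
      have hg : Nat.gcd e (4 * e') = d :=
        Nat.Coprime.gcd_mul_left_cancel_right e' (show Nat.Coprime 4 e by
          rw [show 4 = 2 ^ 2 by norm_num]
          exact Nat.Coprime.pow_left 2 (Nat.coprime_two_left.2 he))
      exact hg ▸ dvd_sub_one_gcd hrq h4
  · exact hr2 (dvd_sub_one_gcd hrq h')

theorem three_not_dvd_ord {e : ℕ} (he : Odd e) : ¬ 3 ∣ ord e := by
  obtain ⟨m, rfl⟩ := he
  have h : 2 ^ (2 * m + 1) % 3 = 2 := by
    rw [pow_succ, pow_mul, Nat.mul_mod, Nat.pow_mod]; norm_num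
  intro hd
  rcases Nat.prime_three.dvd_mul.1 hd with h' | h'
  · rcases Nat.prime_three.dvd_mul.1 h' with h' | h'
    · rw [Nat.mod_eq_zero_of_dvd (Nat.prime_three.dvd_of_dvd_pow h')] at h
      omega
    · rw [Nat.dvd_iff_mod_eq_zero, Nat.add_mod, Nat.pow_mod, h] at h'
      norm_num at h'
  · generalize 2 ^ (2 * m + 1) = a at h h'
    omega

theorem ord_strictMono {d e : ℕ} (hd : 1 ≤ d) (h : d < e) : ord d < ord e := by
  have h1 : 2 ^ d < 2 ^ e := Nat.pow_lt_pow_right one_lt_two h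
  have h2 : 2 ≤ 2 ^ d := Nat.le_self_pow (by omega) 2
  unfold ord
  gcongr <;> omega

end Cfsg.Lib.SuzMax
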