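import Mathlib
import Cfsg.Agent.SuzMaxOrders.Arith
import Cfsg.Agent.Suz.Sub.Count
import Cfsg.Agent.Suz.SolubBase

/-!
# Orders of the maximal subgroups of a Suzuki group
-/

set_option autoImplicit false
set_option linter.unusedSectionVars false

namespace Cfsg.Lib.SuzMax

open Cfsg.Lib.Suz Cfsg.Lib.Suz.Sub Cfsg.Lib.Suz.Solub

variable {F : Type*} [Field F] [Fintype F] {m : ℕ} (Q : Par F m)

local notation "SS" => Cfsg.Sz F m
local notation "qq" => (2 ^ (2 * m + 1) : ℕ)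
local notation "rr" => (2 ^ (m + 1) : ℕ)

include Q

theorem card_eq_ord : Nat.card SS = ord (2 * m + 1) := card_Sz Q

theorem prod_tori : (qq + rr + 1) * (qq - rr + 1) = qq ^ 2 + 1 := by
  obtain ⟨h8, h4, h2, hq, hr⟩ := num_facts Q
  have hsq := rr_sq Q
  obtain ⟨w, hw⟩ : ∃ w, qq = rr + w := ⟨qq - rr, by omega⟩
  rw [hw] at hsq ⊢
  rw [Nat.add_sub_cancel_left]
  nlinarith [hsq]

theorem coprime_big :
    Nat.Coprime (qq + rr + 1) 2 ∧ Nat.Coprime (qq - rr + 1) 2 ∧
    Nat.Coprime (qq + rr + 1) (qq - 1) ∧ Nat.Coprime (qq - rr + 1) (qq - 1) ∧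
    Nat.Coprime (qq + rr + 1) (qq - rr + 1) := by
  obtain ⟨h8, h4, h2, hq, hr⟩ := num_facts Q
  obtain ⟨hA, hB, hAB⟩ := coprime_tori Q
  exact ⟨Nat.coprime_two_right.2 (Nat.odd_iff.2 (by omega)), Nat.coprime_two_right.2 (Nat.odd_iff.2 (by omega)),
    hA.symm, hB.symm, hAB⟩

theorem card_normalizer_sylow (P : Sylow 2 SS) :
    Nat.card (Subgroup.normalizer ((P : Subgroup SS) : Set SS)) = qq ^ 2 * (qq - 1) := by
  have : Fact (Nat.Prime 2) := ⟨Nat.prime_two⟩
  have h1 := (Subgroup.normalizer ((P : Subgroup SS) : Set SS)).index_mul_card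
  have h2 := (Subgroup.normalizer ((syl Q : Subgroup SS) : Set SS)).index_mul_card
  erw [← P.card_eq_index_normalizer] at h1
  erw [← (syl Q).card_eq_index_normalizer] at h2
  rw [← h1] at h2
  have h3 := Nat.eq_of_mul_eq_mul_left Nat.card_pos h2
  rw [← h3, syl_coe, normalizer_uSub Q, stab_inf_card Q]

theorem card_normalizer_torus {U : Subgroup SS} (hU : IsCyclic U)
    (hc : Nat.card U ∈ ({qq - 1, qq + rr + 1, qq - rr + 1} : Set ℕ)) :
    Nat.card (Subgroup.normalizer (U : Set SS)) = 2 * (qq - 1) ∨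
    Nat.card (Subgroup.normalizer (U : Set SS)) = 4 * (qq + rr + 1) ∨
    Nat.card (Subgroup.normalizer (U : Set SS)) = 4 * (qq - rr + 1) := by
  obtain ⟨h8, h4, h2, hq, hr⟩ := num_facts Q
  have hodd : Odd (Nat.card U) ∧ 1 < Nat.card U := by
    simp only [Set.mem_insert_iff, Set.mem_singleton_iff] at hc
    rcases hc with e | e | e <;> rw [e] <;> exact ⟨Nat.odd_iff.2 (by omega), by omega⟩
  obtain ⟨⟨a, ha⟩, hgen⟩ := hU.exists_generator
  have ho : orderOf a = Nat.card U :=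
    (Subgroup.orderOf_mk a ha).symm.trans (orderOf_eq_card_of_forall_mem_zpowers hgen)
  have hne : a ≠ 1 := fun e => by rw [e, orderOf_one] at ho; omega
  have hs : Semi Q a := semi_of_odd Q hne (ho ▸ hodd.1)
  have hle : U ≤ tor a := fun y hy => by
    obtain ⟨i, hi⟩ := hgen ⟨y, hy⟩
    have hy' : a ^ i = y := congrArg Subtype.val hi
    rw [← hy']
    exact mem_tor.2 ((Commute.refl a).zpow_left i)
  have hdvd := Subgroup.card_dvd_of_le hle
  obtain ⟨c1, c2, c3, c4, c5⟩ := coprime_big Q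
  have contra : ∀ {u t : ℕ}, u ∣ t → Nat.Coprime u t → 1 < u → False := fun hd hco h => by
    have := Nat.Coprime.eq_one_of_dvd hco hd
    omega
  have heq : Nat.card U = Nat.card (tor a) := by
    simp only [Set.mem_insert_iff, Set.mem_singleton_iff] at hc
    rcases nor_card Q hs with ⟨e, -⟩ | ⟨e | e, -⟩ <;> rw [e] at hdvd ⊢ <;>
      rcases hc with e' | e' | e' <;> rw [e'] at hdvd ⊢
    · exact (contra hdvd c3 (by omega)).elim
    · exact (contra hdvd c4 (by omega)).elim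
    · exact (contra hdvd c3.symm (by omega)).elim
    · exact (contra hdvd c5.symm (by omega)).elim
    · exact (contra hdvd c4.symm (by omega)).elim
    · exact (contra hdvd c5 (by omega)).elim
  have hUt : U = tor a := Subgroup.eq_of_le_of_card_ge hle heq.ge
  rw [hUt]
  rcases nor_card Q hs with ⟨e, e'⟩ | ⟨e | e, e'⟩
  · exact Or.inl (by rw [← e]; exact e')
  · exact Or.inr (Or.inl (by rw [← e]; exact e'))
  · exact Or.inr (Or.inr (by rw [← e]; exact e'))

/-- The proper subgroups. -/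
theorem classify (M : Subgroup SS) (hM : M ≠ ⊤) :
    Nat.card M ∣ qq ^ 2 * (qq - 1) ∨ Nat.card M ∣ 2 * (qq - 1) ∨ Nat.card M ∣ 4 * (qq + rr + 1) ∨
    Nat.card M ∣ 4 * (qq - rr + 1) ∨
    ∃ k, 1 ≤ k ∧ 2 * k + 1 ∣ 2 * m + 1 ∧ 2 * k + 1 < 2 * m + 1 ∧ Nat.card M ∣ ord (2 * k + 1) := by
  rcases Cfsg.Lib.Suz.Sub.reduce Q M with ⟨P, hP⟩ | ⟨U, hU, hc, hle⟩ | ⟨k, K, iK, iK', R, ι, c, hdiv, hN⟩
  · exact Or.inl (card_normalizer_sylow Q P ▸ Subgroup.card_dvd_of_le hP)
  · have h := Subgroup.card_dvd_of_le hle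
    rcases card_normalizer_torus Q hU hc with e | e | e <;> rw [e] at h
    · exact Or.inr (Or.inl h)
    · exact Or.inr (Or.inr (Or.inl h))
    · exact Or.inr (Or.inr (Or.inr (Or.inl h)))
  · have h : Nat.card M = ord (2 * k + 1) := by
      rw [← Subgroup.card_map_of_injective (f := (MulAut.conj c).toMonoidHom) (MulAut.conj c).injective,
        Cfsg.Lib.Suz.Sub.eq_emb Q R hdiv hN,
        ← Nat.card_congr (MonoidHom.ofInjective (emb_injective Q R hdiv ι)).toEquiv]
      exact card_Sz R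
    refine Or.inr (Or.inr (Or.inr (Or.inr ⟨k, R.hm, hdiv, ?_, h.dvd⟩)))
    refine lt_of_le_of_ne (Nat.le_of_dvd (Nat.succ_pos _) hdiv) fun e => hM ?_
    exact Subgroup.eq_top_of_card_eq _ (by rw [h, e, card_eq_ord Q])

theorem ord_split :
    ord (2 * m + 1) = (qq ^ 2 * (qq - 1)) * ((qq + rr + 1) * (qq - rr + 1)) ∧
    ord (2 * m + 1) = (2 * (qq - 1)) * (2 * (2 ^ (2 * m)) ^ 2 * ((qq + rr + 1) * (qq - rr + 1))) ∧
    ord (2 * m + 1) = (4 * (qq + rr + 1)) * ((2 ^ (2 * m)) ^ 2 * (qq - rr + 1) * (qq - 1)) ∧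
    ord (2 * m + 1) = (4 * (qq - rr + 1)) * ((2 ^ (2 * m)) ^ 2 * (qq + rr + 1) * (qq - 1)) := by
  have hq : qq = 2 ^ (2 * m) * 2 := pow_succ 2 (2 * m)
  have hord : ord (2 * m + 1) = qq ^ 2 * ((qq + rr + 1) * (qq - rr + 1)) * (qq - 1) := by
    rw [prod_tori Q]; rfl
  refine ⟨?_, ?_, ?_, ?_⟩ <;> rw [hord, show qq ^ 2 = 4 * (2 ^ (2 * m)) ^ 2 by rw [hq]; ring] <;> ring

theorem index_dvd {M : Subgroup SS} {n X : ℕ} (h : Nat.card M ∣ n) (he : ord (2 * m + 1) = n * X) :
    X ∣ M.index := by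
  obtain ⟨d, hd⟩ := h
  have h1 := M.card_mul_index
  rw [card_eq_ord Q, he, hd, mul_assoc] at h1
  exact ⟨d, by rw [Nat.eq_of_mul_eq_mul_left Nat.card_pos h1, mul_comm]⟩

/-- No proper subgroup has prime power index. -/
theorem not_isPrimePow_index (M : Subgroup SS) (hM : M ≠ ⊤) : ¬ IsPrimePow M.index := by
  obtain ⟨h8, h4, h2, hq, hr⟩ := num_facts Q
  obtain ⟨c1, c2, c3, c4, c5⟩ := coprime_big Q
  obtain ⟨s1, s2, s3, s4⟩ := ord_split Q
  have hm := Q.hm
  have heven : 2 ∣ (2 ^ (2 * m)) ^ 2 := dvd_pow (dvd_pow_self 2 (by omega)) two_ne_zero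
  rcases classify Q M hM with h | h | h | h | ⟨k, hk, hdiv, hlt, h⟩
  · have hX := index_dvd Q h s1
    exact not_isPrimePow_of_coprime ((dvd_mul_right _ _).trans hX) ((dvd_mul_left _ _).trans hX) c5
      (by omega) (by omega)
  · have hX := index_dvd Q h s2
    exact not_isPrimePow_of_coprime (((dvd_mul_right 2 _).mul_right _).trans hX)
      (((dvd_mul_right _ _).mul_left _).trans hX) c1.symm (by omega) (by omega)
  · have hX := index_dvd Q h s3
    exact not_isPrimePow_of_coprime (((heven.mul_right _).mul_right _).trans hX)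
      (((dvd_mul_left _ _).mul_right _).trans hX) c2.symm (by omega) (by omega)
  · have hX := index_dvd Q h s4
    exact not_isPrimePow_of_coprime (((heven.mul_right _).mul_right _).trans hX)
      (((dvd_mul_left _ _).mul_right _).trans hX) c1.symm (by omega) (by omega)
  · obtain ⟨r, hr', hr2, hrq, hrn⟩ := prime_sep (e := 2 * m + 1) (e' := 2 * k + 1) (odd_two_mul_add_one m)
      (fun hd => absurd (Nat.le_of_dvd (Nat.succ_pos _) hd) (by omega))
    have hG := M.card_mul_index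
    rw [card_eq_ord Q] at hG
    have hrG : r ∣ Nat.card M * M.index := hG ▸ hrq.mul_left _
    have hrI : r ∣ M.index := (hr'.dvd_mul.1 hrG).resolve_left fun hd => hrn (hd.trans h)
    have h2I : 2 ∣ M.index := by
      by_contra h2n
      have hp2 : qq ^ 2 ∣ Nat.card M :=
        (Nat.Coprime.pow_left 2 (Nat.Coprime.pow_left _ (Nat.prime_two.coprime_iff_not_dvd.2 h2n))).dvd_of_dvd_mul_right
          (hG ▸ (dvd_mul_right _ _).mul_right _)
      have h1 := hp2.trans h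
      unfold ord at h1
      have hk0 : 2 ∣ 2 ^ (2 * k + 1) := dvd_pow_self 2 (Nat.succ_ne_zero _)
      have hk0' : 2 ∣ (2 ^ (2 * k + 1)) ^ 2 := dvd_pow hk0 two_ne_zero
      have hk1 : 1 ≤ 2 ^ (2 * k + 1) := Nat.one_le_two_pow
      have e1 : Nat.Coprime (qq ^ 2) (2 ^ (2 * k + 1) - 1) :=
        Nat.Coprime.pow_left _ (Nat.Coprime.pow_left _ (Nat.coprime_two_left.2 (Nat.odd_iff.2 (by omega))))
      have e2 : Nat.Coprime (qq ^ 2) ((2 ^ (2 * k + 1)) ^ 2 + 1) :=
        Nat.Coprime.pow_left _ (Nat.Coprime.pow_left _ (Nat.coprime_two_left.2 (Nat.odd_iff.2 (by omega))))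
      have h3 := Nat.le_of_dvd (by positivity) (e2.dvd_of_dvd_mul_right (e1.dvd_of_dvd_mul_right h1))
      have h5 : 2 ^ (2 * k + 1) < qq := Nat.pow_lt_pow_right one_lt_two hlt
      have h6 := Nat.pow_lt_pow_left h5 two_ne_zero
      omega
    exact not_isPrimePow_of_coprime h2I hrI ((Nat.coprime_primes Nat.prime_two hr').2 (Ne.symm hr2))
      one_lt_two hr'.one_lt

/-- The normaliser of the larger torus is maximal. -/
theorem exists_coatom_torus : ∃ M : Subgroup SS, IsCoatom M ∧ Nat.card M = 4 * (qq + rr + 1) := by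
  obtain ⟨h8, h4, h2, hq, hr⟩ := num_facts Q
  obtain ⟨c1, c2, c3, c4, c5⟩ := coprime_big Q
  obtain ⟨U, -, -, -, hN⟩ := tori Q (qq + rr + 1) (Or.inl rfl)
  have hne : Subgroup.normalizer (U : Set SS) ≠ ⊤ := fun e => by
    have h := card_eq_ord Q
    rw [← Subgroup.card_top (G := SS), ← e, hN] at h
    obtain ⟨-, -, s3, -⟩ := ord_split Q
    rw [s3] at h
    have h1 : (2 ^ (2 * m)) ^ 2 * (qq - rr + 1) * (qq - 1) = 1 :=
      (Nat.eq_of_mul_eq_mul_left (show 0 < 4 * (qq + rr + 1) by positivity) ((mul_one _).trans h)).symm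
    have := Nat.eq_one_of_mul_eq_one_left h1
    omega
  obtain ⟨M, hM, hle⟩ := (eq_top_or_exists_le_coatom (Subgroup.normalizer (U : Set SS))).resolve_left hne
  refine ⟨M, hM, Nat.dvd_antisymm ?_ (hN ▸ Subgroup.card_dvd_of_le hle)⟩
  have hd : qq + rr + 1 ∣ Nat.card M :=
    (dvd_mul_left _ 4).trans (hN ▸ Subgroup.card_dvd_of_le hle)
  have hA1 : 1 < qq + rr + 1 := by omega
  rcases classify Q M hM.1 with h | h | h | h | ⟨k, hk, hdiv, hlt, h⟩
  · exfalso
    have e : qq + rr + 1 = 1 := Nat.Coprime.eq_one_of_dvd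
      (((c1.pow_right _).pow_right 2).mul_right c3) (hd.trans h)
    omega
  · exfalso
    have e : qq + rr + 1 = 1 := Nat.Coprime.eq_one_of_dvd (c1.mul_right c3) (hd.trans h)
    omega
  · exact h
  · exfalso
    have e : qq + rr + 1 = 1 := Nat.Coprime.eq_one_of_dvd
      ((show Nat.Coprime (qq + rr + 1) 4 from by simpa using c1.pow_right 2).mul_right c5) (hd.trans h)
    omega
  · exfalso
    have h1 := hd.trans h
    unfold ord at h1
    have hsub : 2 ^ (2 * k + 1) - 1 ∣ qq - 1 := Nat.pow_sub_one_dvd_pow_sub_one 2 hdiv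
    have e1 : Nat.Coprime (qq + rr + 1) (2 ^ (2 * k + 1) - 1) := c3.coprime_dvd_right hsub
    have e2 : Nat.Coprime (qq + rr + 1) ((2 ^ (2 * k + 1)) ^ 2) := (c1.pow_right _).pow_right 2
    have h3 := Nat.le_of_dvd (by positivity) (e2.dvd_of_dvd_mul_left (e1.dvd_of_dvd_mul_right h1))
    have h5 : (2 ^ (2 * k + 1)) ^ 2 ≤ qq := by
      rw [← pow_mul]
      refine Nat.pow_le_pow_right two_pos ?_
      obtain ⟨d, hd'⟩ := hdiv
      rcases d with _ | _ | d
      · omega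
      · omega
      · nlinarith
    omega

end Cfsg.Lib.SuzMax
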