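import Mathlib
import Cfsg.Agent.SuzMaxOrders.Sub
import Cfsg.Agent.SuzMaxOrders.Group
import Cfsg.Agent.Suz.Lie
import Cfsg.Agent.Goldschmidt.Final
import Cfsg.Agent.Ree.Field.Final
import Cfsg.Agent.Goldschmidt.Consequences.SFour
import Cfsg.Agent.S0048
import Cfsg.Prelude.Def_Sz

/-!
# Recognition of the Suzuki groups by the orders of their maximal subgroups
-/

set_option autoImplicit false

namespace Cfsg.Lib.SuzMax

open Subgroup

universe u v

/-- A simple group of order prime to three is a Suzuki group. -/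
theorem isoSuzuki_of_coprime_three {G : Type u} [Group G] [Finite G] [IsSimpleGroup G]
    (hna : ¬ IsMulCommutative G) (h3 : ¬ 3 ∣ Nat.card G) : Cfsg.Lie.IsoSuzuki G := by
  have hno : ∀ (P : Type) [Group P], 3 ∣ Nat.card P → ¬ Cfsg.Involves P G := by
    intro P _ h hi
    obtain ⟨K, R, _, ⟨e⟩⟩ := hi
    refine h3 (h.trans ?_)
    rw [← Nat.card_congr e.toEquiv]
    exact (card_quotient_dvd_card _).trans (card_subgroup_dvd_card K)
  have hgold := (Cfsg.Lib.Goldschmidt.sfour_free_iff Cfsg.Lib.Goldschmidt.goldProp.{u}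
    Cfsg.Lib.Ree.Field.noFieldProp.{u} hna).1 (hno _ (by rw [Nat.card_perm, Nat.card_fin]; decide))
  rcases (Cfsg.Agent.S2755.result hgold).2.1 (hno _ (by rw [Nat.card_perm, Nat.card_fin]; decide)) with
    h | ⟨F, iF, iF', n, hF, ⟨f⟩⟩
  · exact h
  · exfalso
    have h := Cfsg.Lib.Classical.SmallPSL.card_psl (F := F) rfl
    rw [← Nat.card_congr f.toEquiv] at h
    have h3F : 3 ∣ Fintype.card F := hF ▸ dvd_pow_self 3 (Nat.succ_ne_zero _)
    have hdvd : 3 ∣ Nat.gcd 2 (Fintype.card F - 1) * Nat.card G := h ▸ h3F.mul_right _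
    rcases Nat.prime_three.dvd_mul.1 hdvd with h' | h'
    · have := Nat.le_of_dvd two_pos (h'.trans (Nat.gcd_dvd_left _ _))
      omega
    · exact h3 h'

/-- Suzuki groups over fields of the same order are isomorphic. -/
theorem iso_of_card {K : Type u} [Field K] [Fintype K] {F : Type v} [Field F] [Fintype F] {m : ℕ}
    (R : Cfsg.Lib.Suz.Par K m) (Q : Cfsg.Lib.Suz.Par F m) :
    Nonempty (↥(Cfsg.Lie.Sz K (2 ^ (m + 1))) ≃* ↥(Cfsg.Lie.Sz F (2 ^ (m + 1)))) := by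
  obtain ⟨ι⟩ := Cfsg.Lib.Suz.exists_embedding Q R dvd_rfl
  have hb : Function.Bijective (Cfsg.Lib.Suz.emb Q R dvd_rfl ι) :=
    (Nat.bijective_iff_injective_and_card _).2 ⟨Cfsg.Lib.Suz.emb_injective Q R dvd_rfl ι,
      (Cfsg.Lib.Suz.card_Sz R).trans (Cfsg.Lib.Suz.card_Sz Q).symm⟩
  exact ⟨((Cfsg.Lib.Suz.lieEquiv R).symm.trans (MulEquiv.ofBijective _ hb)).trans
    (Cfsg.Lib.Suz.lieEquiv Q)⟩

theorem main {G : Type u} [Group G] [Finite G] {F : Type v} [Field F] [Fintype F] (m : ℕ) (hm : 1 ≤ m)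
    (hF : Fintype.card F = 2 ^ (2 * m + 1))
    (h : {k : ℕ | ∃ M : Subgroup G, IsCoatom M ∧ k = Nat.card ↥M} =
      {k : ℕ | ∃ M : Subgroup ↥(Cfsg.Lie.Sz F (2 ^ (m + 1))), IsCoatom M ∧ k = Nat.card ↥M}) :
    Nonempty (G ≃* ↥(Cfsg.Lie.Sz F (2 ^ (m + 1)))) := by
  classical
  have Q : Cfsg.Lib.Suz.Par F m := ⟨hm, hF⟩
  set g := ord (2 * m + 1) with hg
  have hgpos : g ≠ 0 := (ord_pos (Nat.succ_pos _)).ne'
  -- transport to the concrete copy
  set e := Cfsg.Lib.Suz.lieEquiv Q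
  have hset : ∀ k, (∃ M : Subgroup G, IsCoatom M ∧ k = Nat.card ↥M) ↔
      ∃ M : Subgroup ↥(Cfsg.Sz F m), IsCoatom M ∧ k = Nat.card ↥M := fun k => by
    have hk := Set.ext_iff.1 h k
    refine hk.trans ⟨?_, ?_⟩
    · rintro ⟨M, hM, rfl⟩
      exact ⟨M.map e.symm.toMonoidHom, (OrderIso.isCoatom_iff (MulEquiv.mapSubgroup e.symm) M).2 hM,
        (Nat.card_congr (e.symm.subgroupMap M).toEquiv)⟩
    · rintro ⟨M, hM, rfl⟩
      exact ⟨M.map e.toMonoidHom, (OrderIso.isCoatom_iff (MulEquiv.mapSubgroup e) M).2 hM,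
        (Nat.card_congr (e.subgroupMap M).toEquiv)⟩
  obtain ⟨h8, h4, h2, hq, hr⟩ := Cfsg.Lib.Suz.Solub.num_facts Q
  obtain ⟨c1, c2, c3, c4, c5⟩ := coprime_big Q
  obtain ⟨MA, hMA, hMAc⟩ := exists_coatom_torus Q
  set A := 2 ^ (2 * m + 1) + 2 ^ (m + 1) + 1 with hA
  obtain ⟨M, hM, hMc⟩ := (hset _).2 ⟨MA, hMA, hMAc.symm⟩
  have notpp : ∀ {c : ℕ}, 4 * A ∣ c → ∀ p n : ℕ, p.Prime → c ≠ p ^ n := by
    intro c hc p n hp e
    rw [e] at hc
    have h1 : 2 ∣ p ^ n := (dvd_mul_of_dvd_left (by norm_num) _).trans hc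
    obtain rfl := (Nat.prime_dvd_prime_iff_eq Nat.prime_two hp).1 (Nat.prime_two.dvd_of_dvd_pow h1)
    have h2' : A = 1 := Nat.Coprime.eq_one_of_dvd (c1.pow_right n) ((dvd_mul_left A 4).trans hc)
    omega
  have hSS : Nat.card ↥(Cfsg.Sz F m) = g := card_eq_ord Q
  have hGd : Nat.card G ∣ g := card_dvd_of_coatoms
    (fun M hM => by
      obtain ⟨M', -, e'⟩ := (hset _).1 ⟨M, hM, rfl⟩
      rw [e', ← hSS]; exact M'.card_subgroup_dvd_card)
    (notpp (hMc ▸ M.card_subgroup_dvd_card)) hgpos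
  have hdG : g ∣ Nat.card G := hSS ▸ card_dvd_of_coatoms
    (fun M hM => by
      obtain ⟨M', -, e'⟩ := (hset _).2 ⟨M, hM, rfl⟩
      rw [e']; exact M'.card_subgroup_dvd_card)
    (notpp (hMAc ▸ MA.card_subgroup_dvd_card)) Nat.card_pos.ne'
  have hG : Nat.card G = g := Nat.dvd_antisymm hGd hdG
  have hpp : ∀ M : Subgroup G, IsCoatom M → ¬ IsPrimePow M.index := by
    intro M hM
    obtain ⟨M', hM', e'⟩ := (hset _).1 ⟨M, hM, rfl⟩
    have h1 := M.card_mul_index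
    rw [hG, e', ← hSS, ← M'.card_mul_index] at h1
    rw [Nat.eq_of_mul_eq_mul_left Nat.card_pos h1]
    exact not_isPrimePow_index Q M' hM'.1
  -- the solvable radical
  obtain ⟨R, ⟨hRn, hRs⟩, hRmax⟩ := (Set.toFinite {R : Subgroup G | R.Normal ∧ Group.IsSolvable R}).exists_maximal
    ⟨⊥, normal_bot, inferInstance⟩
  haveI := hRn
  haveI := hRs
  have hRM : R ≤ M := solvable_normal_le hM (hpp M hM)
  set f := QuotientGroup.mk' R
  have hs : Function.Surjective f := QuotientGroup.mk'_surjective R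
  have hker : f.ker = R := QuotientGroup.ker_mk' R
  haveI : Nontrivial (G ⧸ R) := QuotientGroup.nontrivial_iff.2 fun e => hM.1 (top_le_iff.1 (e ▸ hRM))
  obtain ⟨Kb, -, hKn, hKb, hmin⟩ := Cfsg.Lib.Coprime.exists_minimal_normal
    (inferInstance : (⊤ : Subgroup (G ⧸ R)).Normal) (fun h => (bot_ne_top (α := Subgroup (G ⧸ R))) h.symm)
  haveI := hKn
  set K := Kb.comap f with hK
  haveI hKnorm : K.Normal := hKn.comap f
  have hRK : R ≤ K := hker ▸ f.ker_le_comap Kb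
  have hcardK : Nat.card K = Nat.card R * Nat.card Kb := by
    have h1 := K.card_mul_index
    rw [hK, index_comap_of_surjective Kb hs, ← hK] at h1
    have h2 := Kb.card_mul_index
    have h3 := R.card_mul_index
    rw [show R.index = Nat.card (G ⧸ R) from rfl, ← h2, ← h1, ← mul_assoc] at h3
    exact (Nat.eq_of_mul_eq_mul_right (Nat.pos_of_ne_zero Kb.index_ne_zero_of_finite) h3).symm
  have hns : ¬ Group.IsSolvable Kb := by
    intro hsol
    have hKs : Group.IsSolvable K := by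
      have h1 : ((f.subgroupComap Kb)).ker ≤ (inclusion hRK).range := by
        intro z hz
        exact ⟨⟨z.1, (QuotientGroup.eq_one_iff _).1 (congrArg Subtype.val (MonoidHom.mem_ker.1 hz))⟩, rfl⟩
      exact Group.isSolvable_of_ker_le_range (inclusion hRK) (f.subgroupComap Kb) h1
    refine hKb (eq_bot_iff.2 fun z hz => ?_)
    obtain ⟨w, rfl⟩ := hs z
    have hw : w ∈ R := hRmax ⟨hKnorm, hKs⟩ hRK hz
    rw [← hker] at hw
    exact MonoidHom.mem_ker.1 hw
  obtain ⟨N, hN, hsimp, ⟨a, b, hab⟩, c, hc⟩ := exists_simple_image hns hmin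
  haveI := hsimp
  have hna : ¬ IsMulCommutative (↥Kb ⧸ N) := fun hh => hab (hh.is_comm.comm a b)
  have hTK : Nat.card (↥Kb ⧸ N) ∣ Nat.card K :=
    (card_quotient_dvd_card N).trans (hcardK ▸ dvd_mul_left _ _)
  have hKg : Nat.card K ∣ g := hG ▸ K.card_subgroup_dvd_card
  obtain ⟨F₀, iF₀, iF₀', m₀, hm₀, hF₀, ⟨ψ⟩⟩ := isoSuzuki_of_coprime_three hna
    fun h3 => three_not_dvd_ord (odd_two_mul_add_one m) (h3.trans (hTK.trans hKg))
  have R₀ : Cfsg.Lib.Suz.Par F₀ m₀ := ⟨hm₀, hF₀⟩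
  have hT : Nat.card (↥Kb ⧸ N) = ord (2 * m₀ + 1) := by
    rw [Nat.card_congr (ψ.trans (Cfsg.Lib.Suz.lieEquiv R₀).symm).toEquiv]
    exact card_eq_ord R₀
  -- the maximal subgroup does not contain `K`
  have hKM : ¬ K ≤ M := fun hle => by
    have h1 := hTK.trans (card_dvd_of_le hle)
    rw [hT, ← hMc] at h1
    have h8' : 8 ∣ ord (2 * m₀ + 1) := by
      refine Dvd.dvd.mul_right (Dvd.dvd.mul_right ?_ _) _
      rw [← pow_mul, show (8 : ℕ) = 2 ^ 3 by norm_num]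
      exact Nat.pow_dvd_pow 2 (by omega)
    have h2' := h8'.trans h1
    rw [show (8 : ℕ) = 4 * 2 by norm_num, Nat.mul_dvd_mul_iff_left (by norm_num)] at h2'
    exact Nat.prime_two.one_lt.ne' (Nat.Coprime.eq_one_of_dvd c1.symm h2')
  have hsup : K ⊔ M = ⊤ := hM.2 _ (lt_of_le_of_ne le_sup_right fun e => hKM (e ▸ le_sup_left))
  have hcover : g ∣ Nat.card K * Nat.card M := by
    have h1 : K.index = K.relIndex M := by
      have := relIndex_sup_left (K := K) (H := M)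
      rwa [hsup, relIndex_top_right] at this
    have h2 : K.index ∣ Nat.card M := h1 ▸ relIndex_dvd_card K M
    rw [← hG, ← K.card_mul_index]
    exact Nat.mul_dvd_mul_left _ h2
  have hq1 : 2 ^ (2 * m + 1) - 1 ∣ Nat.card Kb := by
    have hco : Nat.Coprime (2 ^ (2 * m + 1) - 1) (Nat.card M) := by
      rw [← hMc]
      exact ((show Nat.Coprime (2 ^ (2 * m + 1) - 1) 2 from
        Nat.coprime_two_right.2 (Nat.odd_iff.2 (by omega))).pow_right 2).mul_right c3.symm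
    have h1 : 2 ^ (2 * m + 1) - 1 ∣ Nat.card K :=
      hco.dvd_of_dvd_mul_right ((dvd_mul_left _ _).trans hcover)
    rw [hcardK] at h1
    exact (hco.coprime_dvd_right (card_dvd_of_le hRM)).dvd_of_dvd_mul_left h1
  have he : 2 * m + 1 ∣ 2 * m₀ + 1 := by
    by_contra hne
    obtain ⟨r, hr', -, hr1, hr2⟩ := prime_sep (odd_two_mul_add_one m) hne
    exact hr2 (hT ▸ hr'.dvd_of_dvd_pow ((hr1.trans hq1).trans hc))
  have hle : 2 * m₀ + 1 ≤ 2 * m + 1 := by
    by_contra hlt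
    have h1 := Nat.le_of_dvd (Nat.pos_of_ne_zero hgpos) (hTK.trans hKg)
    rw [hT] at h1
    exact absurd h1 (not_le.2 (ord_strictMono (Nat.succ_pos _) (Nat.lt_of_not_le hlt)))
  obtain rfl : m₀ = m := by
    have := Nat.le_of_dvd (Nat.succ_pos _) he
    omega
  -- hence the simple section is everything
  have hKtop : K = ⊤ := Subgroup.eq_top_of_card_eq _ (Nat.dvd_antisymm K.card_subgroup_dvd_card
    (by rw [hG, hg, ← hT]; exact hTK))
  let θ : K →* ↥Kb ⧸ N := (QuotientGroup.mk' N).comp (f.subgroupComap Kb)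
  have hθs : Function.Surjective θ :=
    (QuotientGroup.mk'_surjective N).comp (f.subgroupComap_surjective_of_surjective Kb hs)
  have hθ : Function.Bijective θ :=
    (Nat.bijective_iff_surjective_and_card θ).2 ⟨hθs, by rw [hT, hKtop, card_top, hG]⟩
  obtain ⟨iso⟩ := iso_of_card R₀ Q
  exact ⟨((((MulEquiv.subgroupCongr hKtop).trans topEquiv).symm.trans (MulEquiv.ofBijective θ hθ)).trans
    ψ).trans iso⟩

end Cfsg.Lib.SuzMax
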